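import Mathlib

/-!
The trace to the fixed field of the involutive Frobenius power of a field with `p ^ (2 * b)` elements.
-/

set_option autoImplicit false

namespace CfsgLib.SchmidtCover

variable {K : Type*} [Field K]

/-- `x ↦ x + σ x`. -/
def trMap (σ : K ≃+* K) : K →+ K := AddMonoidHom.id K + (σ : K →+* K).toAddMonoidHom

/-- `x ↦ x - σ x`. -/
def difMap (σ : K ≃+* K) : K →+ K := AddMonoidHom.id K - (σ : K →+* K).toAddMonoidHom

theorem trMap_apply (σ : K ≃+* K) (x : K) : trMap σ x = x + σ x := rfl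

theorem difMap_apply (σ : K ≃+* K) (x : K) : difMap σ x = x - σ x := rfl

theorem charP_of_card {p a : ℕ} [Fact p.Prime] [Finite K] (hK : Nat.card K = p ^ a) : CharP K p := by
  refine (CharP.charP_iff_prime_eq_zero (Fact.out : p.Prime)).mpr ?_
  letI := Fintype.ofFinite K
  have h : ((Fintype.card K : ℕ) : K) = 0 := Nat.cast_card_eq_zero K
  rw [← Nat.card_eq_fintype_card, hK, Nat.cast_pow] at h
  exact eq_zero_of_pow_eq_zero h

/-- Facts on the trace of the Frobenius involution. -/
theorem exists_frob_invol [Finite K] {p b : ℕ} [Fact p.Prime] (hb : 0 < b) (hK : Nat.card K = p ^ (2 * b)) :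
    ∃ σ : K ≃+* K, (∀ x, σ x = x ^ p ^ b) ∧ (∀ x, σ (σ x) = x) ∧
      Nat.card (trMap σ).ker = p ^ b ∧ Nat.card (trMap σ).range = p ^ b ∧
      (∀ y, σ y = y → ∃ z, z + σ z = y) ∧ (∀ x, x + σ x = 0 → ∃ t, t - σ t = x) := by
  classical
  have hp : p.Prime := Fact.out
  haveI := charP_of_card hK
  letI := Fintype.ofFinite K
  let σ : K ≃+* K := iterateFrobeniusEquiv K p b
  have hσ : ∀ x, σ x = x ^ p ^ b := fun x => iterateFrobeniusEquiv_def K p b x
  have hσσ : ∀ x, σ (σ x) = x := fun x => by
    rw [hσ, hσ, ← pow_mul, ← pow_add, ← two_mul, ← hK, Nat.card_eq_fintype_card, FiniteField.pow_card]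
  set N := p ^ b with hN
  have hN1 : 1 < N := Nat.one_lt_pow hb.ne' hp.one_lt
  have hcard : Nat.card K = N * N := by rw [hK, hN, ← pow_add, two_mul]
  -- few roots
  have hroots : ∀ c : K, Nat.card {x : K // x ^ N + c * x = 0} ≤ N := by
    intro c
    set f : Polynomial K := Polynomial.X ^ N + Polynomial.C c * Polynomial.X with hf
    have hd : f.natDegree = N := by
      rw [hf, Polynomial.natDegree_add_eq_left_of_natDegree_lt, Polynomial.natDegree_X_pow]
      rw [Polynomial.natDegree_X_pow]
      refine lt_of_le_of_lt (Polynomial.natDegree_C_mul_le _ _) ?_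
      rw [Polynomial.natDegree_X]
      exact hN1
    have hne : f ≠ 0 := fun h => by rw [h, Polynomial.natDegree_zero] at hd; omega
    rw [Nat.card_eq_fintype_card, Fintype.card_subtype]
    refine le_trans ?_ hd.le
    refine le_trans (Finset.card_le_card ?_) (le_trans (Multiset.toFinset_card_le f.roots)
      (Polynomial.card_roots' f))
    intro x hx
    rw [Finset.mem_filter] at hx
    rw [Multiset.mem_toFinset, Polynomial.mem_roots hne]
    simp only [Polynomial.IsRoot, hf, Polynomial.eval_add, Polynomial.eval_pow, Polynomial.eval_X,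
      Polynomial.eval_mul, Polynomial.eval_C]
    exact hx.2
  have hkt : Nat.card (trMap σ).ker ≤ N :=
    le_trans (le_of_eq (Nat.card_congr (Equiv.subtypeEquivRight fun x => by
      rw [AddMonoidHom.mem_ker, trMap_apply, hσ, one_mul, add_comm]))) (hroots 1)
  have hkd : Nat.card (difMap σ).ker ≤ N :=
    le_trans (le_of_eq (Nat.card_congr (Equiv.subtypeEquivRight fun x => by
      rw [AddMonoidHom.mem_ker, difMap_apply, hσ, neg_one_mul, ← sub_eq_add_neg]
      rw [sub_eq_zero, sub_eq_zero, eq_comm]))) (hroots (-1))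
  have hmul : ∀ f : K →+ K, Nat.card f.ker * Nat.card f.range = N * N := by
    intro f
    rw [← hcard, ← AddSubgroup.card_mul_index f.ker, AddSubgroup.index_ker]
  have htd : (trMap σ).range ≤ (difMap σ).ker := by
    rintro _ ⟨x, rfl⟩
    rw [AddMonoidHom.mem_ker, difMap_apply, trMap_apply, map_add, hσσ]
    ring
  have hdt : (difMap σ).range ≤ (trMap σ).ker := by
    rintro _ ⟨x, rfl⟩
    rw [AddMonoidHom.mem_ker, trMap_apply, difMap_apply, map_sub, hσσ]
    ring
  have hrt : Nat.card (trMap σ).range ≤ N := (AddSubgroup.card_le_of_le htd).trans hkd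
  have hrd : Nat.card (difMap σ).range ≤ N := (AddSubgroup.card_le_of_le hdt).trans hkt
  have hboth : ∀ k r : ℕ, k * r = N * N → k ≤ N → r ≤ N → k = N ∧ r = N := by
    intro k r h hk hr
    constructor
    · refine le_antisymm hk (Nat.le_of_mul_le_mul_right ?_ (by omega : 0 < N))
      rw [← h]
      exact Nat.mul_le_mul_left k hr
    · refine le_antisymm hr (Nat.le_of_mul_le_mul_left ?_ (by omega : 0 < N))
      rw [← h]
      exact Nat.mul_le_mul_right r hk
  obtain ⟨h1, h2⟩ := hboth _ _ (hmul _) hkt hrt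
  obtain ⟨h3, h4⟩ := hboth _ _ (hmul _) hkd hrd
  have e1 : (trMap σ).range = (difMap σ).ker := AddSubgroup.eq_of_le_of_card_ge htd (h3.le.trans h2.ge)
  have e2 : (difMap σ).range = (trMap σ).ker := AddSubgroup.eq_of_le_of_card_ge hdt (h1.le.trans h4.ge)
  refine ⟨σ, hσ, hσσ, h1, h2, fun y hy => ?_, fun x hx => ?_⟩
  · have : y ∈ (trMap σ).range := by
      rw [e1, AddMonoidHom.mem_ker, difMap_apply, hy, sub_self]
    obtain ⟨z, hz⟩ := this
    exact ⟨z, hz⟩
  · have : x ∈ (difMap σ).range := by
      rw [e2, AddMonoidHom.mem_ker, trMap_apply, hx]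
    obtain ⟨z, hz⟩ := this
    exact ⟨z, hz⟩

end CfsgLib.SchmidtCover
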