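import Cfsg.Agent.Lib.SchmidtCover.Model
import Cfsg.Agent.Lib.SchmidtCover.Field

/-!
The bound on the order of a `p`-group of class at most two with an irreducible automorphism of prime order fixing
the commutator subgroup.
-/

set_option autoImplicit false

open scoped commutatorElement

namespace CfsgLib.SchmidtCover

universe u v

variable {K : Type u} [Field K]

/-- The powers of a ring generator span additively. -/
theorem span_powers {z : K} (hgen : Subring.closure ({z} : Set K) = ⊤) {S : AddSubgroup K}
    (h : ∀ i : ℕ, z ^ i ∈ S) (x : K) : x ∈ S := by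
  have hx : x ∈ Subring.closure ({z} : Set K) := hgen ▸ Subring.mem_top x
  rw [Subring.mem_closure_iff] at hx
  refine (AddSubgroup.closure_le S).mpr ?_ hx
  intro y hy
  rw [SetLike.mem_coe, Submonoid.mem_closure_singleton] at hy
  obtain ⟨i, rfl⟩ := hy
  exact h i

theorem eq_one_of_ne_zero : ∀ x : ZMod 2, x ≠ 0 → x = 1 := by decide

theorem card_le_of_coord [Finite K] {p q a : ℕ} [Fact p.Prime] [Fact q.Prime] (hK : Nat.card K = p ^ a)
    (ha : a = orderOf (p : ZMod q)) (hpq : p ≠ q) {ζ : Kˣ} (hord : orderOf ζ = q) {P : Type v} [Group P] [Finite P]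
    (π : P →* Multiplicative K) (hπ : Function.Surjective π) (hker : π.ker = commutator P)
    (hc : commutator P ≤ Subgroup.center P) (α : MulAut P) (heq : ∀ y, π (α y) = scal ζ (π y))
    (hfix : ∀ y ∈ commutator P, α y = y) :
    Nat.card P ≤ p ^ (if a % 2 = 1 then a else 3 * a / 2) := by
  classical
  have hp : p.Prime := Fact.out
  have hq : q.Prime := Fact.out
  haveI := charP_of_card hK
  have ha0 : 0 < a := by
    rw [ha]
    exact ((ZMod.isUnit_iff_coprime _ _).mpr ((Nat.coprime_primes hp hq).mpr hpq)).isOfFinOrder.orderOf_pos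
  have hgen := closure_eq_top hpq ha hK ζ hord
  set D := commutator P with hD
  letI : CommGroup D := { (inferInstance : Group D) with
    mul_comm := fun x y => Subtype.ext ((Subgroup.mem_center_iff.mp (hc x.2) y).symm) }
  have hcard : Nat.card P = Nat.card D * p ^ a := by
    rw [← D.card_mul_index]
    congr 1
    rw [← hker, Subgroup.index_ker, MonoidHom.range_eq_top.mpr hπ, Subgroup.card_top,
      Nat.card_congr Multiplicative.toAdd, hK]
  let rep : K → P := fun u => Function.surjInv hπ (Multiplicative.ofAdd u)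
  have hrep : ∀ u, π (rep u) = Multiplicative.ofAdd u := fun u => Function.surjInv_eq hπ _
  let c : K → K → D := fun u v =>
    ⟨⁅rep u, rep v⁆, Subgroup.commutator_mem_commutator (Subgroup.mem_top _) (Subgroup.mem_top _)⟩
  -- the value is independent of the lifts
  have hind : ∀ y y' w : P, π y = π y' → ⁅y, w⁆ = ⁅y', w⁆ := by
    intro y y' w h
    have hk : y'⁻¹ * y ∈ π.ker := by rw [MonoidHom.mem_ker, map_mul, map_inv, h, inv_mul_cancel]
    rw [hker] at hk
    obtain ⟨k, hk', rfl⟩ : ∃ k ∈ D, y = y' * k := ⟨_, hk, by group⟩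
    have h1 := Subgroup.mem_center_iff.mp (hc hk') w
    simp only [commutatorElement_def]
    rw [mul_assoc y' k w, ← h1]
    group
  have hind2 : ∀ y w w' : P, π w = π w' → ⁅y, w⁆ = ⁅y, w'⁆ := by
    intro y w w' h
    rw [← commutatorElement_inv w y, ← commutatorElement_inv w' y, hind w w' y h]
  have hceq : ∀ (u v : K) (y w : P), π y = Multiplicative.ofAdd u → π w = Multiplicative.ofAdd v →
      ((c u v : D) : P) = ⁅y, w⁆ := fun u v y w hy hw =>
    (hind (rep u) y (rep v) ((hrep u).trans hy.symm)).trans (hind2 y (rep v) w ((hrep v).trans hw.symm))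
  have hmem : ∀ y w : P, ⁅y, w⁆ ∈ Subgroup.center P := fun y w =>
    hc (Subgroup.commutator_mem_commutator (Subgroup.mem_top y) (Subgroup.mem_top w))
  have hadd1 : ∀ u u' v, c (u + u') v = c u v * c u' v := by
    intro u u' v
    refine Subtype.ext ?_
    rw [hceq (u + u') v (rep u * rep u') (rep v) (by rw [map_mul, hrep, hrep, ofAdd_add]) (hrep v)]
    have h1 := Subgroup.mem_center_iff.mp (hmem (rep u') (rep v))
    show ⁅rep u * rep u', rep v⁆ = ⁅rep u, rep v⁆ * ⁅rep u', rep v⁆
    calc ⁅rep u * rep u', rep v⁆ = rep u * ⁅rep u', rep v⁆ * (rep u)⁻¹ * ⁅rep u, rep v⁆ := by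
          simp only [commutatorElement_def]; group
      _ = ⁅rep u', rep v⁆ * ⁅rep u, rep v⁆ := by rw [h1 (rep u), mul_inv_cancel_right]
      _ = _ := (h1 _).symm
  have hswap : ∀ u v, c v u = (c u v)⁻¹ := fun u v => Subtype.ext (commutatorElement_inv (rep u) (rep v)).symm
  have hadd2 : ∀ u v v', c u (v + v') = c u v * c u v' := by
    intro u v v'
    rw [hswap (v + v') u, hadd1, mul_inv, ← hswap v u, ← hswap v' u]
  have hself : ∀ u, c u u = 1 := fun u => Subtype.ext (commutatorElement_self (rep u))
  have hinv : ∀ u v, c ((ζ : K) * u) ((ζ : K) * v) = c u v := by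
    intro u v
    refine Subtype.ext ?_
    rw [hceq _ _ (α (rep u)) (α (rep v)) (by rw [heq, hrep, scal_apply, toAdd_ofAdd])
      (by rw [heq, hrep, scal_apply, toAdd_ofAdd]), ← map_commutatorElement]
    exact hfix _ (c u v).2
  have hinvk : ∀ (i : ℕ) (u v : K), c ((ζ : K) ^ i * u) ((ζ : K) ^ i * v) = c u v := by
    intro i
    induction i with
    | zero => intro u v; simp
    | succ i ih => intro u v; rw [pow_succ', mul_assoc, mul_assoc, hinv, ih]
  let L : K →+ Additive D := AddMonoidHom.mk' (fun v => Additive.ofMul (c 1 v)) (fun v v' => by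
    show Additive.ofMul (c 1 (v + v')) = Additive.ofMul (c 1 v * c 1 v')
    rw [hadd2])
  -- every commutator is a value of `L`
  have hrange : ∀ u v, Additive.ofMul (c u v) ∈ L.range := by
    let S : AddSubgroup K :=
      { carrier := {u | ∀ v, Additive.ofMul (c u v) ∈ L.range}
        zero_mem' := fun v => by
          have h : c 0 v = 1 := by
            have h1 := hadd1 0 0 v
            rw [add_zero] at h1
            exact mul_eq_left.mp h1.symm
          rw [h]
          exact L.range.zero_mem
        add_mem' := fun {u u'} hu hu' v => by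
          rw [hadd1]
          exact L.range.add_mem (hu v) (hu' v)
        neg_mem' := fun {u} hu v => by
          have h : c (-u) v = (c u v)⁻¹ := by
            have h1 := hadd1 u (-u) v
            have h0 := hadd1 0 0 v
            rw [add_zero] at h0
            rw [add_neg_cancel, mul_eq_left.mp h0.symm] at h1
            exact eq_inv_of_mul_eq_one_right h1.symm
          rw [h]
          exact L.range.neg_mem (hu v) }
    intro u
    exact span_powers hgen (S := S) (fun i v => ⟨((ζ : K) ^ i)⁻¹ * v, by
      show Additive.ofMul (c 1 (((ζ : K) ^ i)⁻¹ * v)) = _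
      congr 1
      conv_rhs => rw [← mul_inv_cancel_left₀ (pow_ne_zero i ζ.ne_zero) v]
      conv_rhs => rw [show c ((ζ : K) ^ i) = c ((ζ : K) ^ i * 1) from by rw [mul_one]]
      rw [hinvk]⟩) u
  have hLsurj : L.range = ⊤ := by
    let R : Subgroup D := AddSubgroup.toSubgroup' L.range
    have hRmem : ∀ d : D, d ∈ R ↔ Additive.ofMul d ∈ L.range := fun d => Iff.rfl
    have h1 : D ≤ R.map D.subtype := by
      conv_lhs => rw [hD, commutator_def]
      rw [Subgroup.commutator_le]
      intro y _ w _
      refine ⟨c (Multiplicative.toAdd (π y)) (Multiplicative.toAdd (π w)), (hRmem _).mpr (hrange _ _),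
        hceq _ _ y w rfl rfl⟩
    rw [eq_top_iff]
    intro d _
    obtain ⟨r, hr, hrd⟩ := h1 d.toMul.2
    rw [show d = Additive.ofMul r from Additive.toMul.injective (Subtype.ext hrd).symm]
    exact hr
  have hDL : Nat.card D = L.ker.index := by
    rw [AddSubgroup.index_ker, hLsurj, AddSubgroup.card_top]
    exact Nat.card_congr Additive.ofMul
  have hKi := L.ker.card_mul_index
  rw [hK, ← hDL] at hKi
  by_cases hodd : a % 2 = 1
  · rw [if_pos hodd]
    suffices h : ∀ v, L v = 0 by
      have hk : L.ker = ⊤ := eq_top_iff.mpr fun v _ => h v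
      rw [hcard, hDL, hk, AddSubgroup.index_top, one_mul]
    by_cases ha1 : a = 1
    · intro v
      haveI : Fact (Nat.card K).Prime := ⟨by rw [hK, ha1, pow_one]; exact hp⟩
      have h1 : AddSubgroup.zmultiples (1 : K) = ⊤ := zmultiples_eq_top_of_prime_card rfl one_ne_zero
      obtain ⟨m, rfl⟩ := AddSubgroup.mem_zmultiples_iff.mp (h1 ▸ AddSubgroup.mem_top v)
      rw [map_zsmul, show L 1 = 0 from congrArg Additive.ofMul (hself 1), smul_zero]
    · let A : Subring (K × K) :=
        { carrier := {x | ∀ u v, c (x.1 * u) v = c u (x.2 * v)}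
          one_mem' := fun u v => by simp
          mul_mem' := fun {x y} hx hy u v => by
            show c (x.1 * y.1 * u) v = c u (x.2 * y.2 * v)
            rw [mul_assoc, hx, hy, ← mul_assoc, mul_comm y.2 x.2]
          zero_mem' := fun u v => by
            show c (0 * u) v = c u (0 * v)
            rw [zero_mul, zero_mul]
            have h1 := hadd1 0 0 v
            rw [add_zero] at h1
            have h2 := hadd2 u 0 0
            rw [add_zero] at h2
            rw [mul_eq_left.mp h1.symm, mul_eq_left.mp h2.symm]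
          add_mem' := fun {x y} hx hy u v => by
            show c ((x.1 + y.1) * u) v = c u ((x.2 + y.2) * v)
            rw [add_mul, add_mul, hadd1, hadd2, hx, hy]
          neg_mem' := fun {x} hx u v => by
            show c (-x.1 * u) v = c u (-x.2 * v)
            rw [neg_mul, neg_mul]
            have h1 := hadd1 (x.1 * u) (-(x.1 * u)) v
            have h2 := hadd2 u (x.2 * v) (-(x.2 * v))
            rw [add_neg_cancel] at h1 h2
            have h3 := hadd1 0 0 v
            rw [add_zero] at h3
            have h4 := hadd2 u 0 0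
            rw [add_zero] at h4
            rw [mul_eq_left.mp h3.symm] at h1
            rw [mul_eq_left.mp h4.symm] at h2
            rw [eq_inv_of_mul_eq_one_right h1.symm, eq_inv_of_mul_eq_one_right h2.symm, hx] }
      have hmemA : ((ζ : K), (ζ : K)⁻¹) ∈ A := fun u v => by
        show c ((ζ : K) * u) v = c u ((ζ : K)⁻¹ * v)
        conv_lhs => rw [← mul_inv_cancel_left₀ ζ.ne_zero v]
        exact hinv _ _
      let f : A →+* K := (RingHom.fst K K).comp A.subtype
      by_cases hzero : ∃ x ∈ A, x.1 = 0 ∧ x.2 ≠ 0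
      · obtain ⟨x, hx, hx1, hx2⟩ := hzero
        intro v
        have h1 := hx 1 (x.2⁻¹ * v)
        rw [hx1, zero_mul, mul_inv_cancel_left₀ hx2] at h1
        have h3 := hadd1 0 0 (x.2⁻¹ * v)
        rw [add_zero] at h3
        show Additive.ofMul (c 1 v) = 0
        rw [← h1, mul_eq_left.mp h3.symm]
        rfl
      · exfalso
        push Not at hzero
        have hfinj : Function.Injective f := by
          rw [injective_iff_map_eq_zero]
          intro x hx
          exact Subtype.ext (Prod.ext hx (hzero x x.2 hx))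
        have hfsurj : Function.Surjective f := by
          rw [← RingHom.range_eq_top, eq_top_iff, ← hgen, Subring.closure_le, Set.singleton_subset_iff]
          exact ⟨⟨_, hmemA⟩, rfl⟩
        let φ : K →+* K := ((RingHom.snd K K).comp A.subtype).comp
          (RingEquiv.ofBijective f ⟨hfinj, hfsurj⟩).symm.toRingHom
        have hφζ : φ (ζ : K) = (ζ : K)⁻¹ := by
          have h1 : (RingEquiv.ofBijective f ⟨hfinj, hfsurj⟩).symm (ζ : K) = ⟨_, hmemA⟩ := by
            rw [RingEquiv.symm_apply_eq]
            rfl
          show ((RingEquiv.ofBijective f ⟨hfinj, hfsurj⟩).symm (ζ : K)).1.2 = _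
          rw [h1]
        letI : Algebra (ZMod p) K := ZMod.algebra K p
        let φa : K →ₐ[ZMod p] K := { φ with
          commutes' := fun r => congrArg (fun g : ZMod p →+* K => g r)
            (RingHom.ext_zmod (φ.comp (algebraMap (ZMod p) K)) (algebraMap (ZMod p) K)) }
        obtain ⟨i, hi⟩ := (FiniteField.bijective_frobeniusAlgHom_pow (ZMod p) K).2 φa
        have hpow : ∀ (m : ℕ) (x : K), (FiniteField.frobeniusAlgHom (ZMod p) K ^ m) x = x ^ p ^ m := by
          intro m
          induction m with
          | zero => intro x; simp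
          | succ m ih =>
            intro x
            rw [pow_succ', AlgHom.mul_apply, ih, pow_succ (p), pow_mul, FiniteField.frobeniusAlgHom_apply,
              ZMod.card]
        have h1 : (ζ : K) ^ p ^ (i : ℕ) = (ζ : K)⁻¹ := by
          rw [← hpow, show FiniteField.frobeniusAlgHom (ZMod p) K ^ (i : ℕ) = φa from hi]
          exact hφζ
        have h2 : q ∣ p ^ (i : ℕ) + 1 := by
          rw [← hord, orderOf_dvd_iff_pow_eq_one, ← Units.val_eq_one, Units.val_pow_eq_pow_val, pow_succ, h1,
            inv_mul_cancel₀ ζ.ne_zero]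
        have h3 : (p : ZMod q) ^ (i : ℕ) = -1 := by
          rw [← ZMod.natCast_eq_zero_iff, Nat.cast_add, Nat.cast_pow, Nat.cast_one] at h2
          exact eq_neg_of_add_eq_zero_left h2
        have h4 : a ∣ (i : ℕ) := by
          have : (p : ZMod q) ^ (2 * (i : ℕ)) = 1 := by rw [mul_comm, pow_mul, h3]; ring
          have h5 := orderOf_dvd_of_pow_eq_one this
          rw [← ha] at h5
          exact ((Nat.coprime_two_right.mpr (Nat.odd_iff.mpr hodd))).dvd_of_dvd_mul_left h5
        have h6 : (p : ZMod q) ^ (i : ℕ) = 1 := by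
          rw [← orderOf_dvd_iff_pow_eq_one, ← ha]
          exact h4
        rw [h6] at h3
        have hq2 : q = 2 := by
          have h7 : ((2 : ℕ) : ZMod q) = 0 := by
            rw [Nat.cast_ofNat, show (2 : ZMod q) = 1 + 1 from one_add_one_eq_two.symm]
            nth_rw 1 [h3]
            exact neg_add_cancel 1
          exact (Nat.prime_dvd_prime_iff_eq hq Nat.prime_two).mp ((ZMod.natCast_eq_zero_iff _ _).mp h7)
        subst hq2
        apply ha1
        rw [ha, orderOf_eq_one_iff]
        have : ∀ x : ZMod 2, x ≠ 0 → x = 1 := eq_one_of_ne_zero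
        refine this _ fun h => hpq ?_
        exact ((Nat.prime_dvd_prime_iff_eq Nat.prime_two hp).mp ((ZMod.natCast_eq_zero_iff _ _).mp h)).symm
  · rw [if_neg hodd]
    obtain ⟨b, rfl⟩ : ∃ b, a = 2 * b := ⟨a / 2, by omega⟩
    obtain ⟨σ, hσ, -, -, hrt, -, -⟩ := exists_frob_invol (b := b) (by omega) hK
    have hneg : (p : ZMod q) ^ b = -1 := by
      have h1 : ((p : ZMod q) ^ b) ^ 2 = 1 := by
        rw [← pow_mul, mul_comm, ha, pow_orderOf_eq_one]
      rcases sq_eq_one_iff.mp h1 with h | h
      · exfalso
        have h2 := orderOf_dvd_of_pow_eq_one h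
        rw [← ha] at h2
        have := Nat.le_of_dvd (by omega) h2
        omega
      · exact h
    have hσζ : σ (ζ : K) * (ζ : K) = 1 := by
      rw [hσ, ← pow_succ, ← Units.val_pow_eq_pow_val, Units.val_eq_one, ← orderOf_dvd_iff_pow_eq_one, hord,
        ← ZMod.natCast_eq_zero_iff, Nat.cast_add, Nat.cast_pow, hneg, Nat.cast_one, neg_add_cancel]
    have hzero : ∀ t, L (trMap σ t) = 0 := by
      intro t
      refine span_powers hgen (S := (L.comp (trMap σ)).ker) (fun i => ?_) t
      show L ((ζ : K) ^ i + σ ((ζ : K) ^ i)) = 0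
      rw [map_pow σ, map_add L]
      show Additive.ofMul (c 1 ((ζ : K) ^ i) * c 1 (σ (ζ : K) ^ i)) = 0
      have h1 : c 1 (σ (ζ : K) ^ i) = c ((ζ : K) ^ i) 1 := by
        rw [← hinvk i 1, mul_one, ← mul_pow, mul_comm (ζ : K), hσζ, one_pow]
      rw [h1, hswap ((1 : K)) ((ζ : K) ^ i), mul_inv_cancel]
      rfl
    have hle : (trMap σ).range ≤ L.ker := by
      rintro _ ⟨t, rfl⟩
      exact hzero t
    have hk : p ^ b ≤ Nat.card L.ker := hrt ▸ AddSubgroup.card_le_of_le hle
    have hD' : Nat.card D ≤ p ^ b := by
      refine Nat.le_of_mul_le_mul_left ?_ (Nat.pow_pos hp.pos : 0 < p ^ b)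
      calc p ^ b * Nat.card D ≤ Nat.card L.ker * Nat.card D := Nat.mul_le_mul_right _ hk
        _ = p ^ b * p ^ b := by rw [hKi, ← pow_add, two_mul]
    rw [hcard, show 3 * (2 * b) / 2 = b + 2 * b by omega, pow_add]
    exact Nat.mul_le_mul_right _ hD'

end CfsgLib.SchmidtCover
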