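import Cfsg.Agent.Lib.SchmidtCover.Model

/-!
An irreducible automorphism of prime order of an elementary abelian `p`-group is a power of multiplication by `ζ`
in field coordinates.
-/

set_option autoImplicit false

namespace CfsgLib.SchmidtCover

universe u v

theorem exists_coord {K : Type u} [Field K] [Finite K] {p q a : ℕ} [Fact p.Prime] [Fact q.Prime]
    (hK : Nat.card K = p ^ a) (ha : a = orderOf (p : ZMod q)) (hpq : p ≠ q) {ζ : Kˣ} (hord : orderOf ζ = q)
    {V : Type v} [CommGroup V] [Finite V] (hexp : ∀ x : V, x ^ p = 1) (σ : MulAut V) (hσq : σ ^ q = 1)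
    (hσ : σ ≠ 1) (hirr : ∀ B : Subgroup V, (∀ b ∈ B, σ b ∈ B) → B = ⊥ ∨ B = ⊤) :
    ∃ j : ℕ, j.Coprime q ∧ ∃ ψ : Multiplicative K ≃* V, ∀ t, ψ (scal ζ t) = (σ ^ j) (ψ t) := by
  classical
  have hp : p.Prime := Fact.out
  have hq : q.Prime := Fact.out
  have hVcard : Nat.card V = p ^ a := by
    rw [ha]
    exact CfsgLib.PNilpotent.card_of_irreducible hp hpq hexp σ hσq hσ hirr
  obtain ⟨e, he⟩ : ∃ e : V, σ e ≠ e := by
    by_contra hcon
    push Not at hcon
    exact hσ (MulEquiv.ext hcon)
  have he1 : e ≠ 1 := fun h => he (by rw [h, map_one])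
  let s : AddMonoid.End (Additive V) :=
    { toFun := fun x => Additive.ofMul (σ x.toMul)
      map_zero' := by simp
      map_add' := fun x y => by simp }
  let ev : Polynomial ℤ →+* AddMonoid.End (Additive V) := Polynomial.eval₂RingHom' (Int.castRingHom _) s
    (fun k => Int.cast_commute k s)
  have hX : ev Polynomial.X = s := Polynomial.eval₂_X _ _
  let Q := Polynomial ℤ ⧸ RingHom.ker ev
  let ι : Q →+* AddMonoid.End (Additive V) := RingHom.kerLift ev
  have hιinj : Function.Injective ι := RingHom.kerLift_injective ev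
  haveI : Finite Q := Finite.of_injective (fun f : Q => (ι f : Additive V → Additive V))
    (fun f g h => hιinj (DFunLike.coe_injective h))
  let τ : Q := Ideal.Quotient.mk _ Polynomial.X
  have hιτ : ι τ = s := (RingHom.kerLift_mk ev Polynomial.X).trans hX
  have hinj : ∀ f : Q, f ≠ 0 → Function.Injective (ι f) := by
    intro f hf
    let B : Subgroup V :=
      { carrier := {x | ι f (Additive.ofMul x) = 0}
        one_mem' := by simp
        mul_mem' := fun {x y} hx hy => by
          simp only [Set.mem_ofPred_eq, ofMul_mul, map_add] at hx hy ⊢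
          rw [hx, hy, add_zero]
        inv_mem' := fun {x} hx => by
          simp only [Set.mem_ofPred_eq, ofMul_inv, map_neg] at hx ⊢
          rw [hx, neg_zero] }
    rcases hirr B (fun b hb => by
      have hb' : ι f (Additive.ofMul b) = 0 := hb
      change ι f (Additive.ofMul (σ b)) = 0
      have h1 : ι f * s = s * ι f := by rw [← hιτ, ← map_mul, ← map_mul, mul_comm]
      have h2 := congrArg (fun g : AddMonoid.End (Additive V) => g (Additive.ofMul b)) h1
      have h3 : ι f (Additive.ofMul (σ b)) = s (ι f (Additive.ofMul b)) := h2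
      rw [h3, hb', map_zero]) with h | h
    · rw [injective_iff_map_eq_zero]
      intro x hx
      have h1 : x.toMul ∈ B := hx
      rw [h, Subgroup.mem_bot] at h1
      exact Additive.toMul.injective h1
    · exact absurd (hιinj (a₁ := f) (a₂ := 0) (by
        rw [map_zero]
        exact AddMonoidHom.ext fun x => (h ▸ Subgroup.mem_top x.toMul : x.toMul ∈ B))) hf
  haveI : Nontrivial Q := ⟨⟨0, 1, fun h => by
    have h1 := congrArg (fun f : Q => ι f (Additive.ofMul e)) h
    simp only [map_zero, map_one] at h1
    exact he1 (Additive.ofMul.injective h1.symm)⟩⟩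
  haveI : NoZeroDivisors Q := ⟨fun {f g} h => by
    by_contra hcon
    push Not at hcon
    refine hcon.2 (hιinj (AddMonoidHom.ext fun x => hinj f hcon.1 ?_))
    rw [map_zero ι]
    have h1 := congrArg (fun k : Q => ι k x) h
    simp only [map_mul, map_zero] at h1
    exact h1.trans (map_zero (ι f)).symm⟩
  haveI : IsDomain Q := NoZeroDivisors.to_isDomain Q
  letI := Fintype.ofFinite Q
  letI := Fintype.fieldOfDomain Q
  -- evaluation at `e`
  let w : Q → V := fun f => (ι f (Additive.ofMul e)).toMul
  have hw : Function.Bijective w := by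
    refine ⟨fun f g h => ?_, ?_⟩
    · by_contra hne
      refine he1 (Additive.ofMul.injective (hinj (f - g) (sub_ne_zero.mpr hne) (a₁ := Additive.ofMul e) (a₂ := 0) ?_))
      rw [map_zero, map_sub]
      exact sub_eq_zero.mpr (Additive.toMul.injective h)
    · let B : Subgroup V :=
        { carrier := Set.range w
          one_mem' := ⟨0, by show (ι 0 (Additive.ofMul e)).toMul = 1; rw [map_zero]; rfl⟩
          mul_mem' := by
            rintro _ _ ⟨f, rfl⟩ ⟨g, rfl⟩
            exact ⟨f + g, by show (ι (f + g) (Additive.ofMul e)).toMul = _; rw [map_add]; rfl⟩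
          inv_mem' := by
            rintro _ ⟨f, rfl⟩
            exact ⟨-f, by show (ι (-f) (Additive.ofMul e)).toMul = _; rw [map_neg]; rfl⟩ }
      rcases hirr B (by
        rintro _ ⟨f, rfl⟩
        refine ⟨τ * f, ?_⟩
        show (ι (τ * f) (Additive.ofMul e)).toMul = _
        rw [map_mul, hιτ]
        rfl) with h | h
      · have h1 : e ∈ B := ⟨1, by show (ι 1 (Additive.ofMul e)).toMul = e; rw [map_one]; rfl⟩
        rw [h, Subgroup.mem_bot] at h1
        exact absurd h1 he1
      · intro x
        exact (h ▸ Subgroup.mem_top x : x ∈ B)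
  letI := Fintype.ofFinite K
  have hcards : Fintype.card K = Fintype.card Q := by
    rw [← Nat.card_eq_fintype_card, ← Nat.card_eq_fintype_card, hK, Nat.card_eq_of_bijective w hw, hVcard]
  let θ : K ≃+* Q := FiniteField.ringEquivOfCardEq hcards
  -- the order of `τ`
  have hspow : ∀ (k : ℕ) (x : Additive V), (s ^ k) x = Additive.ofMul ((σ ^ k) x.toMul) := by
    intro k
    induction k with
    | zero => intro x; simp
    | succ k ih =>
      intro x
      rw [pow_succ', pow_succ', AddMonoid.End.coe_mul, Function.comp_apply, ih, MulAut.mul_apply]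
      rfl
  have hιτk : ∀ k : ℕ, ι (τ ^ k) = s ^ k := fun k => by rw [map_pow, hιτ]
  have hτq : τ ^ q = 1 := hιinj (by
    rw [hιτk, map_one]
    refine AddMonoidHom.ext fun x => ?_
    show (s ^ q) x = x
    rw [hspow, hσq]
    rfl)
  have hτ1 : τ ≠ 1 := fun h => by
    have h1 := congrArg (fun f : Q => ι f (Additive.ofMul e)) h
    simp only [hιτ, map_one] at h1
    exact he (Additive.ofMul.injective h1)
  have hθζ : IsPrimitiveRoot τ q := IsPrimitiveRoot.iff_orderOf.mpr (orderOf_eq_prime hτq hτ1)
  have hζ1 : θ (ζ : K) ^ q = 1 := by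
    rw [← map_pow, ← Units.val_pow_eq_pow_val, ← hord, pow_orderOf_eq_one, Units.val_one, map_one]
  obtain ⟨j, hjq, hj⟩ := hθζ.eq_pow_of_pow_eq_one hζ1
  have hj0 : j ≠ 0 := by
    rintro rfl
    rw [pow_zero] at hj
    have h1 : ζ = 1 := Units.ext (θ.injective (by rw [← hj, Units.val_one, map_one]))
    rw [h1, orderOf_one] at hord
    exact hq.ne_one hord.symm
  refine ⟨j, ((Nat.Prime.coprime_iff_not_dvd hq).mpr fun hd =>
    absurd (Nat.le_of_dvd (Nat.pos_of_ne_zero hj0) hd) (not_le.mpr hjq)).symm, ?_⟩
  let ψ₀ : Multiplicative K →* V :=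
    { toFun := fun t => w (θ (Multiplicative.toAdd t))
      map_one' := by
        show (ι (θ 0) (Additive.ofMul e)).toMul = 1
        rw [map_zero, map_zero]
        rfl
      map_mul' := fun t t' => by
        show (ι (θ (Multiplicative.toAdd t + Multiplicative.toAdd t')) (Additive.ofMul e)).toMul = _
        rw [map_add, map_add]
        rfl }
  refine ⟨MulEquiv.ofBijective ψ₀ (hw.comp (θ.bijective.comp Multiplicative.toAdd.bijective)), fun t => ?_⟩
  show (ι (θ ((ζ : K) * Multiplicative.toAdd t)) (Additive.ofMul e)).toMul =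
    (σ ^ j) (ι (θ (Multiplicative.toAdd t)) (Additive.ofMul e)).toMul
  rw [map_mul θ, ← hj, map_mul ι, hιτk, AddMonoid.End.coe_mul, Function.comp_apply, hspow, toMul_ofMul]

end CfsgLib.SchmidtCover
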