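import Cfsg.Agent.Lib.SchmidtCover.Model
import Cfsg.Agent.Lib.SchmidtCover.Field

/-!
The largest central cover of the model: the Sylow subgroup of a unitary group as normal `p`-part.
-/

set_option autoImplicit false

open scoped commutatorElement

namespace CfsgLib.SchmidtCover

universe u

variable {K : Type u} [Field K]

/-- Pairs `(v, z)` with `z + σ z = v * σ v`. -/
structure Herm (σ : K ≃+* K) (hσ : ∀ x, σ (σ x) = x) : Type u where
  v : K
  z : K
  eq : z + σ z = v * σ v

namespace Herm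

variable {σ : K ≃+* K} {hσ : ∀ x, σ (σ x) = x}

@[ext] theorem ext' {a b : Herm σ hσ} (h1 : a.v = b.v) (h2 : a.z = b.z) : a = b := by
  cases a; cases b; subst h1; subst h2; rfl

instance instMulHerm : Mul (Herm σ hσ) :=
  ⟨fun a b => ⟨a.v + b.v, a.z + b.z + σ a.v * b.v, by
    rw [map_add, map_add, map_mul, hσ, map_add]
    linear_combination a.eq + b.eq⟩⟩

instance instOneHerm : One (Herm σ hσ) := ⟨⟨0, 0, by rw [map_zero, add_zero, zero_mul]⟩⟩

instance instInvHerm : Inv (Herm σ hσ) :=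
  ⟨fun a => ⟨-a.v, -a.z + σ a.v * a.v, by
    rw [map_add, map_neg, map_mul, hσ, map_neg]
    linear_combination -a.eq⟩⟩

theorem mul_v (a b : Herm σ hσ) : (a * b).v = a.v + b.v := rfl
theorem mul_z (a b : Herm σ hσ) : (a * b).z = a.z + b.z + σ a.v * b.v := rfl
theorem one_v : (1 : Herm σ hσ).v = 0 := rfl
theorem one_z : (1 : Herm σ hσ).z = 0 := rfl
theorem inv_v (a : Herm σ hσ) : a⁻¹.v = -a.v := rfl
theorem inv_z (a : Herm σ hσ) : a⁻¹.z = -a.z + σ a.v * a.v := rfl

instance instGroupHerm : Group (Herm σ hσ) :=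
  Group.ofLeftAxioms
    (fun a b c => by
      ext
      · simp only [mul_v, add_assoc]
      · simp only [mul_v, mul_z, map_add]
        ring)
    (fun a => by
      ext
      · simp only [mul_v, one_v, zero_add]
      · simp only [mul_z, one_v, one_z, map_zero, zero_mul, zero_add, add_zero])
    (fun a => by
      ext
      · simp only [mul_v, inv_v, one_v, neg_add_cancel]
      · simp only [mul_z, inv_v, inv_z, one_z, map_neg]
        ring)

instance instFiniteHerm [Finite K] : Finite (Herm σ hσ) :=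
  Finite.of_injective (fun a => (a.v, a.z)) (fun a b h => ext' (congrArg Prod.fst h) (congrArg Prod.snd h))

/-- The projection to the additive group. -/
def proj : Herm σ hσ →* Multiplicative K where
  toFun a := Multiplicative.ofAdd a.v
  map_one' := rfl
  map_mul' _ _ := rfl

theorem mem_ker_proj {a : Herm σ hσ} : a ∈ (proj (σ := σ) (hσ := hσ)).ker ↔ a.v = 0 := by
  rw [MonoidHom.mem_ker]
  exact ⟨fun h => Multiplicative.ofAdd.injective h, fun h => congrArg Multiplicative.ofAdd h⟩

theorem proj_surjective (htr : ∀ y, σ y = y → ∃ z, z + σ z = y) :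
    Function.Surjective (proj (σ := σ) (hσ := hσ)) := fun w => by
  obtain ⟨z, hz⟩ := htr (Multiplicative.toAdd w * σ (Multiplicative.toAdd w))
    (by rw [map_mul, hσ, mul_comm])
  exact ⟨⟨Multiplicative.toAdd w, z, hz⟩, rfl⟩

theorem ker_proj_le_center : (proj (σ := σ) (hσ := hσ)).ker ≤ Subgroup.center (Herm σ hσ) := fun a ha => by
  rw [mem_ker_proj] at ha
  refine Subgroup.mem_center_iff.mpr fun b => ?_
  ext
  · simp only [mul_v]
    ring
  · simp only [mul_z, ha, map_zero]
    ring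

theorem card_ker_proj : Nat.card (proj (σ := σ) (hσ := hσ)).ker = Nat.card (trMap σ).ker := by
  refine Nat.card_congr
    { toFun := fun a => ⟨a.1.z, by
        have h := a.1.eq
        rw [mem_ker_proj.mp a.2, zero_mul] at h
        rwa [AddMonoidHom.mem_ker, trMap_apply]⟩
      invFun := fun z => ⟨⟨0, z.1, by
        have h := z.2
        rw [AddMonoidHom.mem_ker, trMap_apply] at h
        rw [h, zero_mul]⟩, mem_ker_proj.mpr rfl⟩
      left_inv := fun a => Subtype.ext (ext' (mem_ker_proj.mp a.2).symm rfl)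
      right_inv := fun z => rfl }

theorem ker_proj_le_commutator (htr : ∀ y, σ y = y → ∃ z, z + σ z = y)
    (hdif : ∀ x, x + σ x = 0 → ∃ t, t - σ t = x) :
    (proj (σ := σ) (hσ := hσ)).ker ≤ commutator (Herm σ hσ) := fun a ha => by
  rw [mem_ker_proj] at ha
  obtain ⟨t, ht⟩ := hdif a.z (by rw [a.eq, ha, zero_mul])
  obtain ⟨z1, hz1⟩ := htr 1 (map_one σ)
  obtain ⟨z2, hz2⟩ := htr (t * σ t) (by rw [map_mul, hσ, mul_comm])
  set x : Herm σ hσ := ⟨1, z1, by rw [map_one, one_mul]; exact hz1⟩ with hx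
  set y : Herm σ hσ := ⟨t, z2, hz2⟩ with hy
  have h1 : a * (y * x) = x * y := by
    ext
    · simp only [mul_v, ha, hx, hy]
      ring
    · simp only [mul_v, mul_z, ha, hx, hy, map_zero, map_one]
      linear_combination -ht
  have h2 : a = ⁅x, y⁆ := by
    rw [commutatorElement_def, ← h1]
    group
  rw [h2]
  exact Subgroup.commutator_mem_commutator (Subgroup.mem_top x) (Subgroup.mem_top y)

/-- Scalar automorphisms. -/
def scale (ζ : Kˣ) (hζ : σ (ζ : K) * (ζ : K) = 1) : MulAut (Herm σ hσ) where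
  toFun a := ⟨(ζ : K) * a.v, a.z, by
    rw [a.eq, map_mul]
    linear_combination -(a.v * σ a.v) * hζ⟩
  invFun a := ⟨σ (ζ : K) * a.v, a.z, by
    rw [a.eq, map_mul, hσ]
    linear_combination -(a.v * σ a.v) * hζ⟩
  left_inv a := ext' (show σ (ζ : K) * ((ζ : K) * a.v) = a.v by rw [← mul_assoc, hζ, one_mul]) rfl
  right_inv a := ext' (show (ζ : K) * (σ (ζ : K) * a.v) = a.v by
    rw [← mul_assoc, mul_comm (ζ : K), hζ, one_mul]) rfl
  map_mul' a b := ext' (mul_add _ _ _) (by
    show a.z + b.z + σ a.v * b.v = a.z + b.z + σ ((ζ : K) * a.v) * ((ζ : K) * b.v)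
    rw [map_mul]
    linear_combination -(σ a.v * b.v) * hζ)

theorem proj_scale (ζ : Kˣ) (hζ : σ (ζ : K) * (ζ : K) = 1) (a : Herm σ hσ) :
    proj (scale ζ hζ a) = scal ζ (proj a) := rfl

theorem scale_pow (ζ : Kˣ) (hζ : σ (ζ : K) * (ζ : K) = 1) (k : ℕ) (a : Herm σ hσ) :
    ((scale ζ hζ ^ k) a).v = (ζ : K) ^ k * a.v ∧ ((scale ζ hζ ^ k) a).z = a.z := by
  induction k generalizing a with
  | zero => simp
  | succ k ih =>
    rw [pow_succ, MulAut.mul_apply]
    obtain ⟨h1, h2⟩ := ih (scale ζ hζ a)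
    refine ⟨h1.trans ?_, h2.trans rfl⟩
    show (ζ : K) ^ k * ((ζ : K) * a.v) = _
    ring

end Herm

/-- A cover built from a group with a central subgroup below the commutator subgroup. -/
theorem exists_cover_of {ζ : Kˣ} {n : ℕ} {hn : ζ ^ n = 1} [NeZero n] [Finite K] {P₀ : Type u} [Group P₀] [Finite P₀]
    (π : P₀ →* Multiplicative K) (hπ : Function.Surjective π) (α : MulAut P₀) (hα : α ^ n = 1)
    (heq : ∀ y, π (α y) = scal ζ (π y)) (hfix : ∀ y ∈ π.ker, α y = y) (hc : π.ker ≤ Subgroup.center P₀)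
    (hcomm : π.ker ≤ commutator P₀) :
    ∃ (G₀ : Type u) (_ : Group G₀) (_ : Finite G₀) (g : G₀ →* Model ζ n hn), Function.Surjective g ∧
      g.ker ≤ Subgroup.center G₀ ∧ g.ker ≤ commutator G₀ ∧ Nat.card G₀ = Nat.card P₀ * n := by
  have heqk : ∀ (k : ℕ) (y : P₀), π ((α ^ k) y) = scal (ζ ^ k) (π y) := by
    intro k
    induction k with
    | zero => intro y; simp
    | succ k ih =>
      intro y
      rw [pow_succ', MulAut.mul_apply, heq, ih, pow_succ', map_mul, MulAut.mul_apply]
  let φ := cyc n α hα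
  have hφ : ∀ k : ℕ, φ (gen n ^ k) = α ^ k := cyc_gen_pow n α hα
  haveI : Finite (P₀ ⋊[φ] Multiplicative (ZMod n)) := Finite.of_equiv _ SemidirectProduct.equivProd.symm
  let g : P₀ ⋊[φ] Multiplicative (ZMod n) →* Model ζ n hn :=
    SemidirectProduct.map π (MonoidHom.id _) (fun c => by
      ext y
      simp only [MonoidHom.comp_apply, MulEquiv.coe_toMonoidHom, MonoidHom.id_apply]
      rw [← gen_pow_val c, hφ, act_gen_pow, heqk])
  have hker : ∀ x ∈ g.ker, x.right = 1 ∧ x.left ∈ π.ker := by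
    intro x hx
    rw [MonoidHom.mem_ker] at hx
    have h1 : (g x).left = 1 := by rw [hx]; rfl
    have h2 : (g x).right = 1 := by rw [hx]; rfl
    exact ⟨h2, h1⟩
  refine ⟨P₀ ⋊[φ] Multiplicative (ZMod n), inferInstance, inferInstance, g, fun w => ?_, fun x hx => ?_,
    fun x hx => ?_, ?_⟩
  · obtain ⟨y, hy⟩ := hπ w.left
    exact ⟨⟨y, w.right⟩, SemidirectProduct.ext hy rfl⟩
  · obtain ⟨hr, hl⟩ := hker x hx
    refine Subgroup.mem_center_iff.mpr fun y => SemidirectProduct.ext ?_ ?_
    · have hpow : ∀ k : ℕ, (α ^ k) x.left = x.left := by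
        intro k
        induction k with
        | zero => rfl
        | succ k ih => rw [pow_succ', MulAut.mul_apply, ih, hfix _ hl]
      rw [SemidirectProduct.mul_left, SemidirectProduct.mul_left, hr, map_one, MulAut.one_apply,
        ← gen_pow_val y.right, hφ, hpow]
      exact Subgroup.mem_center_iff.mp (hc hl) y.left
    · rw [SemidirectProduct.mul_right, SemidirectProduct.mul_right, mul_comm]
  · obtain ⟨hr, hl⟩ := hker x hx
    have h1 : x = SemidirectProduct.inl x.left := SemidirectProduct.ext (by simp) (by simp [hr])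
    rw [h1]
    have h2 : (commutator P₀).map (SemidirectProduct.inl (φ := φ)) ≤ commutator _ := by
      rw [commutator_def, commutator_def, Subgroup.map_commutator]
      exact Subgroup.commutator_mono le_top le_top
    exact h2 ⟨x.left, hcomm hl, rfl⟩
  · rw [Nat.card_congr SemidirectProduct.equivProd, Nat.card_prod]
    congr 1
    rw [Nat.card_congr Multiplicative.toAdd, Nat.card_zmod]

/-- The cover of maximal order. -/
theorem exists_cover [Finite K] {p q a : ℕ} [Fact p.Prime] [Fact q.Prime] {n : ℕ} [NeZero n]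
    (hK : Nat.card K = p ^ a) (ha : a = orderOf (p : ZMod q)) (hpq : p ≠ q) {ζ : Kˣ} (hord : orderOf ζ = q)
    (hn : ζ ^ n = 1) :
    ∃ (G₀ : Type u) (_ : Group G₀) (_ : Finite G₀) (g : G₀ →* Model ζ n hn), Function.Surjective g ∧
      g.ker ≤ Subgroup.center G₀ ∧ g.ker ≤ commutator G₀ ∧
      Nat.card G₀ = p ^ (if a % 2 = 1 then a else 3 * a / 2) * n := by
  have hp : p.Prime := Fact.out
  have hq : q.Prime := Fact.out
  have ha0 : 0 < a := by
    rw [ha]
    exact ((ZMod.isUnit_iff_coprime _ _).mpr ((Nat.coprime_primes hp hq).mpr hpq)).isOfFinOrder.orderOf_pos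
  by_cases hodd : a % 2 = 1
  · rw [if_pos hodd]
    obtain ⟨G₀, h1, h2, g, hg1, hg2, hg3, hg4⟩ := exists_cover_of (hn := hn) (MonoidHom.id (Multiplicative K))
      Function.surjective_id (scal ζ) (by rw [← map_pow, hn, map_one]) (fun _ => rfl)
      (fun y hy => by rw [MonoidHom.mem_ker, MonoidHom.id_apply] at hy; rw [hy, map_one])
      (fun y hy => by rw [MonoidHom.mem_ker, MonoidHom.id_apply] at hy; rw [hy]; exact one_mem _)
      (fun y hy => by rw [MonoidHom.mem_ker, MonoidHom.id_apply] at hy; rw [hy]; exact one_mem _)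
    exact ⟨G₀, h1, h2, g, hg1, hg2, hg3, by rw [hg4, Nat.card_congr Multiplicative.toAdd, hK]⟩
  · rw [if_neg hodd]
    obtain ⟨b, rfl⟩ : ∃ b, a = 2 * b := ⟨a / 2, by omega⟩
    obtain ⟨σ, hσ, hσσ, hkt, -, htr, hdif⟩ := exists_frob_invol (b := b) (by omega) hK
    -- `ζ ^ (p ^ b + 1) = 1`
    have hneg : (p : ZMod q) ^ b = -1 := by
      have h1 : ((p : ZMod q) ^ b) ^ 2 = 1 := by
        rw [← pow_mul, mul_comm, ha, pow_orderOf_eq_one]
      rcases sq_eq_one_iff.mp h1 with h | h
      · exfalso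
        have h2 := orderOf_dvd_of_pow_eq_one h
        rw [← ha] at h2
        have := Nat.le_of_dvd (by omega) h2
        omega
      · exact h
    have hζ : σ (ζ : K) * (ζ : K) = 1 := by
      rw [hσ, ← pow_succ, ← Units.val_pow_eq_pow_val, Units.val_eq_one, ← orderOf_dvd_iff_pow_eq_one, hord]
      rw [← ZMod.natCast_eq_zero_iff, Nat.cast_add, Nat.cast_pow, hneg, Nat.cast_one, neg_add_cancel]
    obtain ⟨G₀, h1, h2, g, hg1, hg2, hg3, hg4⟩ := exists_cover_of (hn := hn) (Herm.proj (σ := σ) (hσ := hσσ))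
      (Herm.proj_surjective htr) (Herm.scale ζ hζ)
      (MulEquiv.ext fun y => by
        obtain ⟨e1, e2⟩ := Herm.scale_pow ζ hζ n y
        refine Herm.ext' (e1.trans ?_) e2
        rw [← Units.val_pow_eq_pow_val, hn, Units.val_one, one_mul]
        rfl)
      (Herm.proj_scale ζ hζ)
      (fun y hy => Herm.ext' (show (ζ : K) * y.v = y.v by rw [Herm.mem_ker_proj.mp hy, mul_zero]) rfl)
      Herm.ker_proj_le_center (Herm.ker_proj_le_commutator htr hdif)
    refine ⟨G₀, h1, h2, g, hg1, hg2, hg3, ?_⟩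
    rw [hg4, ← (Herm.proj (σ := σ) (hσ := hσσ)).ker.card_mul_index, Subgroup.index_ker, Herm.card_ker_proj, hkt,
      MonoidHom.range_eq_top.mpr (Herm.proj_surjective htr), Subgroup.card_top,
      Nat.card_congr Multiplicative.toAdd, hK, ← pow_add]
    congr 2
    omega

end CfsgLib.SchmidtCover
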