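import Mathlib
import Cfsg.Prelude.Def_Transfer
import Cfsg.Agent.Lib.PNilpotent.Irreducible
import Cfsg.Agent.Lib.Fusion.FrobeniusCriterion
import Cfsg.Agent.Lib.NilpPerm.Bound

/-!
The minimal non-`p`-nilpotent group `K : C_n` (`K` a finite field, a generator of the cyclic group multiplying by `ζ`)
and the central covers of it.
-/

set_option autoImplicit false

namespace CfsgLib.SchmidtCover

universe u v

/-- The distinguished generator of the cyclic group of order `n`. -/
def gen (n : ℕ) : Multiplicative (ZMod n) := Multiplicative.ofAdd 1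

theorem gen_pow_val {n : ℕ} [NeZero n] (c : Multiplicative (ZMod n)) : gen n ^ (Multiplicative.toAdd c).val = c := by
  apply Multiplicative.toAdd.injective
  rw [toAdd_pow, gen, toAdd_ofAdd, nsmul_one, ZMod.natCast_zmod_val]

/-- The homomorphism from the cyclic group of order `n` with value `g` at the generator. -/
noncomputable def cyc {G : Type*} [Group G] (n : ℕ) (g : G) (h : g ^ n = 1) : Multiplicative (ZMod n) →* G :=
  AddMonoidHom.toMultiplicativeLeft (ZMod.lift n ⟨zmultiplesHom (Additive G) (Additive.ofMul g), by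
    rw [zmultiplesHom_apply, natCast_zsmul, ← ofMul_pow, h, ofMul_one]⟩)

theorem cyc_gen {G : Type*} [Group G] (n : ℕ) (g : G) (h : g ^ n = 1) : cyc n g h (gen n) = g := by
  show ((ZMod.lift n ⟨zmultiplesHom (Additive G) (Additive.ofMul g), _⟩) (1 : ZMod n)).toMul = g
  rw [show (1 : ZMod n) = ((1 : ℤ) : ZMod n) from Int.cast_one.symm, ZMod.lift_coe]
  simp

theorem cyc_gen_pow {G : Type*} [Group G] (n : ℕ) (g : G) (h : g ^ n = 1) (k : ℕ) :
    cyc n g h (gen n ^ k) = g ^ k := by rw [map_pow, cyc_gen]

variable {K : Type u} [Field K]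

/-- Multiplication by units, as automorphisms of the additive group. -/
def scal : Kˣ →* MulAut (Multiplicative K) where
  toFun z :=
    { toFun := fun v => Multiplicative.ofAdd ((z : K) * Multiplicative.toAdd v)
      invFun := fun v => Multiplicative.ofAdd (((z⁻¹ : Kˣ) : K) * Multiplicative.toAdd v)
      left_inv := fun v => by simp
      right_inv := fun v => by simp
      map_mul' := fun v w => by
        rw [toAdd_mul, mul_add, ofAdd_add] }
  map_one' := by ext v; simp
  map_mul' z w := by ext v; simp [mul_assoc]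

theorem scal_apply (z : Kˣ) (v : Multiplicative K) :
    scal z v = Multiplicative.ofAdd ((z : K) * Multiplicative.toAdd v) := rfl

/-- The action of the cyclic group through `ζ`. -/
noncomputable def act (ζ : Kˣ) (n : ℕ) (hn : ζ ^ n = 1) : Multiplicative (ZMod n) →* MulAut (Multiplicative K) :=
  cyc n (scal ζ) (by rw [← map_pow, hn, map_one])

/-- The group `K : C_n`. -/
abbrev Model (ζ : Kˣ) (n : ℕ) (hn : ζ ^ n = 1) : Type u :=
  Multiplicative K ⋊[act ζ n hn] Multiplicative (ZMod n)

variable {ζ : Kˣ} {n : ℕ} {hn : ζ ^ n = 1}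

theorem act_gen_pow (k : ℕ) : act ζ n hn (gen n ^ k) = scal (ζ ^ k) := by
  rw [act, cyc_gen_pow, map_pow]

instance instFiniteModel [Finite K] [NeZero n] : Finite (Model ζ n hn) :=
  Finite.of_equiv _ SemidirectProduct.equivProd.symm

theorem card_model [NeZero n] : Nat.card (Model ζ n hn) = Nat.card K * n := by
  rw [Nat.card_congr SemidirectProduct.equivProd, Nat.card_prod]
  congr 1
  rw [Nat.card_congr Multiplicative.toAdd, Nat.card_zmod]

/-- An element of order `q` generates a field of `p ^ ord_q p` elements as a ring. -/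
theorem closure_eq_top [Finite K] {p q a : ℕ} [Fact p.Prime] [Fact q.Prime] [CharP K p] (hpq : p ≠ q)
    (ha : a = orderOf (p : ZMod q)) (hK : Nat.card K = p ^ a) (z : Kˣ) (hz : orderOf z = q) :
    Subring.closure ({(z : K)} : Set K) = ⊤ := by
  have hp : p.Prime := Fact.out
  have hq : q.Prime := Fact.out
  set R := Subring.closure ({(z : K)} : Set K) with hR
  haveI : CharP R p := (inferInstance : CharP R p)
  have hunit : IsUnit (p : ZMod q) := (ZMod.isUnit_iff_coprime _ _).mpr ((Nat.coprime_primes hp hq).mpr hpq)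
  have he0 : 0 < orderOf (p : ZMod q) := hunit.isOfFinOrder.orderOf_pos
  have hS : orderOf (⟨(z : K), Subring.subset_closure rfl⟩ : R) = q := by
    rw [← orderOf_injective R.subtype.toMonoidHom Subtype.val_injective]
    show orderOf (z : K) = q
    rw [orderOf_units, hz]
  haveI := Fintype.ofFinite K
  have hc := CfsgLib.PNilpotent.card_domain_eq (R := R) _ hS he0 (fun f => Subtype.ext (by
    rw [SubmonoidClass.coe_pow, ← ha, ← hK, Nat.card_eq_fintype_card, FiniteField.pow_card]))
  rw [← ha, ← hK] at hc
  refine SetLike.coe_injective ?_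
  rw [Subring.coe_top]
  refine Set.eq_of_subset_of_ncard_le (Set.subset_univ _) ?_ Set.finite_univ
  rw [Set.ncard_univ, ← Nat.card_coe_set_eq]
  exact hc.ge

/-- The model has no normal `p`-complement. -/
theorem not_npc [Finite K] [NeZero n] {p : ℕ} [Fact p.Prime] [CharP K p] (hpn : n.Coprime p) (hζ : ζ ≠ 1) :
    ¬ Cfsg.HasNormalPComplement p (Model ζ n hn) := by
  intro h
  obtain ⟨N, hN, hco, k, hk⟩ := CfsgLib.NPC.hasNormalPComplement_iff.1 h
  haveI := hN
  set g : Model ζ n hn := SemidirectProduct.inr (gen n) with hg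
  have hgn : g ^ n = 1 := by
    rw [hg, ← map_pow]
    have : gen n ^ n = 1 := Multiplicative.toAdd.injective (by simp [gen])
    rw [this, map_one]
  have hgN : g ∈ N :=
    CfsgLib.NPC.mem_of_coprime hk (hpn.coprime_dvd_left (orderOf_dvd_of_pow_eq_one hgn))
  set v : Model ζ n hn := SemidirectProduct.inl (Multiplicative.ofAdd (1 : K)) with hv
  have hc : g * v * g⁻¹ * v⁻¹ ∈ N := by
    have h1 : g * (v * g⁻¹ * v⁻¹) ∈ N := mul_mem hgN (hN.conj_mem _ (inv_mem hgN) v)
    simpa [mul_assoc] using h1
  have heq : g * v * g⁻¹ * v⁻¹ =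
      SemidirectProduct.inl (Multiplicative.ofAdd ((ζ : K) - 1)) := by
    rw [hg, hv, ← map_inv SemidirectProduct.inr, ← SemidirectProduct.inl_aut, ← map_inv, ← map_mul]
    congr 1
    have h1 := act_gen_pow (ζ := ζ) (n := n) (hn := hn) 1
    rw [pow_one, pow_one] at h1
    rw [h1, scal_apply, toAdd_ofAdd, mul_one, ← ofAdd_neg, ← ofAdd_add, sub_eq_add_neg]
  rw [heq] at hc
  have h1 : orderOf (SemidirectProduct.inl (Multiplicative.ofAdd ((ζ : K) - 1)) : Model ζ n hn) = 1 := by
    refine Nat.eq_one_of_dvd_coprimes hco (Subgroup.orderOf_dvd_natCard N hc) (orderOf_dvd_of_pow_eq_one ?_)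
    rw [← map_pow, ← ofAdd_nsmul, nsmul_eq_mul, CharP.cast_eq_zero K p, zero_mul, ofAdd_zero, map_one]
  rw [orderOf_eq_one_iff, ← map_one SemidirectProduct.inl, SemidirectProduct.inl_inj, ← ofAdd_zero] at h1
  exact hζ (Units.ext (by rw [Units.val_one]; exact sub_eq_zero.mp (Multiplicative.ofAdd.injective h1)))

/-- Proper subgroups of the model are commutative. -/
theorem comm_of_ne_top {q r : ℕ} (hq : q.Prime) [NeZero n] (hn' : n = q ^ r) (hζq : ζ ^ q = 1)
    (hgen : Subring.closure ({(ζ : K)} : Set K) = ⊤) (H : Subgroup (Model ζ n hn)) (hH : H ≠ ⊤) :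
    ∀ x ∈ H, ∀ y ∈ H, x * y = y * x := by
  by_cases hR : ∃ h ∈ H, h.right = gen n
  · obtain ⟨h, hhH, hhr⟩ := hR
    -- the part of `H` in the normal subgroup is invariant under multiplication by `ζ`
    let S : AddSubgroup K :=
      { carrier := {t | (SemidirectProduct.inl (Multiplicative.ofAdd t) : Model ζ n hn) ∈ H}
        zero_mem' := by simp
        add_mem' := fun {s t} hs ht => by
          simp only [Set.mem_ofPred_eq, ofAdd_add, map_mul] at hs ht ⊢
          exact mul_mem hs ht
        neg_mem' := fun {s} hs => by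
          simp only [Set.mem_ofPred_eq, ofAdd_neg, map_inv] at hs ⊢
          exact inv_mem hs }
    have hmemS : ∀ t, t ∈ S ↔ (SemidirectProduct.inl (Multiplicative.ofAdd t) : Model ζ n hn) ∈ H :=
      fun t => Iff.rfl
    have hS : ∀ t ∈ S, (ζ : K) * t ∈ S := by
      intro t ht
      rw [hmemS] at ht ⊢
      have h1 := mul_mem (mul_mem hhH ht) (inv_mem hhH)
      have h2 : h * SemidirectProduct.inl (Multiplicative.ofAdd t) * h⁻¹ =
          SemidirectProduct.inl (Multiplicative.ofAdd ((ζ : K) * t)) := by
        conv_lhs => rw [← SemidirectProduct.inl_left_mul_inr_right h, hhr]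
        rw [mul_inv_rev, ← map_inv SemidirectProduct.inr, ← map_inv SemidirectProduct.inl]
        rw [show ∀ A B C D E : Model ζ n hn, A * B * C * (D * E) = A * (B * C * D) * E from
          fun A B C D E => by simp [mul_assoc]]
        rw [← SemidirectProduct.inl_aut, ← map_mul, ← map_mul, mul_right_comm, mul_inv_cancel, one_mul]
        congr 1
        have h1 := act_gen_pow (ζ := ζ) (n := n) (hn := hn) 1
        rw [pow_one, pow_one] at h1
        rw [h1, scal_apply, toAdd_ofAdd]
      rwa [h2] at h1
    rcases eq_or_ne S ⊥ with hbot | hne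
    · intro x hx y hy
      have hinj : ∀ z ∈ H, ∀ w ∈ H, z.right = w.right → z = w := by
        intro z hz w hw hzw
        have h1 : z * w⁻¹ ∈ H := mul_mem hz (inv_mem hw)
        have h2 : z * w⁻¹ = SemidirectProduct.inl (z * w⁻¹).left := by
          refine SemidirectProduct.ext ?_ ?_
          · rw [SemidirectProduct.left_inl]
          · rw [SemidirectProduct.right_inl, SemidirectProduct.mul_right, SemidirectProduct.inv_right, hzw,
              mul_inv_cancel]
        rw [h2] at h1
        have h3 : Multiplicative.toAdd (z * w⁻¹).left ∈ S := by rw [hmemS, ofAdd_toAdd]; exact h1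
        rw [hbot, AddSubgroup.mem_bot] at h3
        rw [show (z * w⁻¹).left = 1 from Multiplicative.toAdd.injective h3, map_one] at h2
        exact mul_inv_eq_one.mp h2
      exact hinj _ (mul_mem hx hy) _ (mul_mem hy hx) (by
        rw [SemidirectProduct.mul_right, SemidirectProduct.mul_right, mul_comm])
    · exfalso
      obtain ⟨t, ht, ht0⟩ : ∃ t ∈ S, t ≠ 0 := by
        by_contra hcon
        push Not at hcon
        exact hne (eq_bot_iff.mpr fun t ht => by simpa using hcon t ht)
      let T : Subring K :=
        { carrier := {x | ∀ t ∈ S, x * t ∈ S}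
          one_mem' := fun t ht => by simpa using ht
          mul_mem' := fun {x y} hx hy t ht => by
            rw [mul_assoc]
            exact hx _ (hy t ht)
          zero_mem' := fun t _ => by simp
          add_mem' := fun {x y} hx hy t ht => by
            rw [add_mul]
            exact S.add_mem (hx t ht) (hy t ht)
          neg_mem' := fun {x} hx t ht => by
            rw [neg_mul]
            exact S.neg_mem (hx t ht) }
      have hT : T = ⊤ := top_le_iff.mp (hgen ▸ Subring.closure_le.mpr (Set.singleton_subset_iff.mpr hS))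
      have hall : ∀ s, (SemidirectProduct.inl (Multiplicative.ofAdd s) : Model ζ n hn) ∈ H := fun s => by
        have h1 : s * t⁻¹ ∈ T := hT ▸ Subring.mem_top _
        have h2 := h1 t ht
        rwa [inv_mul_cancel_right₀ ht0, hmemS] at h2
      apply hH
      rw [eq_top_iff]
      intro x _
      rw [← SemidirectProduct.inl_left_mul_inr_right x]
      refine mul_mem (by simpa using hall (Multiplicative.toAdd x.left)) ?_
      have h1 : (SemidirectProduct.inr (gen n) : Model ζ n hn) ∈ H := by
        have h2 := mul_mem (inv_mem (hall (Multiplicative.toAdd h.left))) hhH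
        rwa [ofAdd_toAdd, ← eq_inv_mul_iff_mul_eq.mpr (SemidirectProduct.inl_left_mul_inr_right h), hhr] at h2
      rw [← gen_pow_val x.right, map_pow]
      exact pow_mem h1 _
  · push Not at hR
    have htriv : ∀ h ∈ H, act ζ n hn h.right = 1 := by
      intro h hh
      set k := (Multiplicative.toAdd h.right).val with hk
      by_cases hqk : q ∣ k
      · obtain ⟨i, hi⟩ := hqk
        rw [← gen_pow_val h.right, ← hk, hi, act_gen_pow, pow_mul, hζq, one_pow, map_one]
      · exfalso
        have hco : Nat.Coprime k n := by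
          rw [hn']
          exact (((Nat.Prime.coprime_iff_not_dvd hq).mpr hqk).pow_left r).symm
        have h1 : gen n ∈ Subgroup.zpowers h.right := by
          rw [← gen_pow_val h.right, ← hk]
          refine ⟨(k.gcdA n : ℤ), ?_⟩
          have hord : gen n ^ (n : ℤ) = 1 := by
            rw [zpow_natCast]
            exact Multiplicative.toAdd.injective (by simp [gen])
          have hb : ((k : ℤ) * k.gcdA n + (n : ℤ) * k.gcdB n) = 1 := by
            rw [← Nat.gcd_eq_gcd_ab, hco, Nat.cast_one]
          show (gen n ^ k) ^ (k.gcdA n) = gen n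
          conv_rhs => rw [← zpow_one (gen n), ← hb, zpow_add, zpow_mul, zpow_mul, hord, one_zpow, mul_one,
            zpow_natCast]
        obtain ⟨i, hi⟩ := h1
        exact hR _ (zpow_mem hh i) ((map_zpow SemidirectProduct.rightHom h i).trans hi)
    intro x hx y hy
    refine SemidirectProduct.ext ?_ ?_
    · rw [SemidirectProduct.mul_left, SemidirectProduct.mul_left, htriv x hx, htriv y hy, MulAut.one_apply,
        MulAut.one_apply, mul_comm]
    · rw [SemidirectProduct.mul_right, SemidirectProduct.mul_right, mul_comm]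

/-- A minimal central cover of the model is minimal non-`p`-nilpotent. -/
theorem minimal_of_cover [Finite K] [NeZero n] {p q r : ℕ} [Fact p.Prime] [CharP K p] (hq : q.Prime)
    (hpq : p ≠ q) (hn' : n = q ^ r) (hord : orderOf ζ = q)
    (hgen : Subring.closure ({(ζ : K)} : Set K) = ⊤) {Y : Type v} [Group Y] [Finite Y]
    (g : Y →* Model ζ n hn) (hg : Function.Surjective g) (hker : g.ker ≤ Subgroup.center Y)
    (hmin : ∀ H : Subgroup Y, H.map g = ⊤ → H = ⊤) :
    ¬ Cfsg.HasNormalPComplement p Y ∧ ∀ H : Subgroup Y, H ≠ ⊤ → Cfsg.HasNormalPComplement p H := by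
  have hpn : n.Coprime p := by
    rw [hn']
    exact ((Nat.coprime_primes hq Fact.out).mpr hpq.symm).pow_left r
  have hζ : ζ ≠ 1 := fun h => hq.ne_one (by rw [← hord, h, orderOf_one])
  refine ⟨fun h => not_npc hpn hζ (CfsgLib.NPC.hasNormalPComplement_of_surjective g hg h), fun H hH => ?_⟩
  have hne : H.map g ≠ ⊤ := fun h => hH (hmin H h)
  haveI : Group.IsNilpotent (H.map g) := by
    letI : CommGroup (H.map g) := { (inferInstance : Group (H.map g)) with
      mul_comm := fun x y => Subtype.ext
        (comm_of_ne_top hq hn' (hord ▸ pow_orderOf_eq_one ζ) hgen _ hne x x.2 y y.2) }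
    exact CommGroup.isNilpotent
  haveI : Group.IsNilpotent H := by
    refine Subgroup.isNilpotent_of_ker_le_center (g.subgroupMap H) fun x hx => ?_
    have h1 : (x : Y) ∈ g.ker := by
      rw [MonoidHom.mem_ker] at hx ⊢
      exact congrArg Subtype.val hx
    exact Subgroup.mem_center_iff.mpr fun y => Subtype.ext (Subgroup.mem_center_iff.mp (hker h1) y)
  exact CfsgLib.NPC.frobenius_criterion fun Q hQ x _ hx => Subgroup.mem_centralizer_iff.mpr fun s hs => by
    obtain ⟨j, hj⟩ := hQ ⟨s, hs⟩
    refine (CfsgLib.NilpPerm.commute_of_coprime_order (a := s) (b := x) ?_).eq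
    exact (hx.symm.pow_left j).coprime_dvd_left (orderOf_dvd_of_pow_eq_one (congrArg Subtype.val hj))

end CfsgLib.SchmidtCover
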