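import Cfsg.Agent.S0132
import Cfsg.Agent.S3736
import Cfsg.Agent.Lib.SchmidtCover.Model
import Cfsg.Agent.Lib.SchmidtCover.Coord
import Cfsg.Agent.Lib.SchmidtCover.Bound
import Cfsg.Agent.Lib.Transfer.PGroup

/-!
Every minimal non-`p`-nilpotent group of order `p ^ t * q ^ r` is a central cover of the model and its `p`-part is
bounded.
-/

set_option autoImplicit false

open scoped commutatorElement

namespace CfsgLib.SchmidtCover

universe u v

theorem commute_of_npc {X : Type*} [Group X] [Finite X] {p : ℕ} [Fact p.Prime] (P : Subgroup X) [P.Normal]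
    (hP : IsPGroup p P) (H : Subgroup X) (h : Cfsg.HasNormalPComplement p H) {x y : X} (hxH : x ∈ H) (hyH : y ∈ H)
    (hy : y ∈ P) (hx : (orderOf x).Coprime p) : x * y = y * x := by
  obtain ⟨N, hN, hco, k, hk⟩ := CfsgLib.NPC.hasNormalPComplement_iff.1 h
  haveI := hN
  have hxN : (⟨x, hxH⟩ : H) ∈ N := CfsgLib.NPC.mem_of_coprime hk (by rw [← Subgroup.orderOf_coe]; exact hx)
  have hcN : ⁅(⟨x, hxH⟩ : H), (⟨y, hyH⟩ : H)⁆ ∈ N := by
    rw [commutatorElement_def, mul_assoc, mul_assoc]
    refine mul_mem hxN ?_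
    rw [← mul_assoc]
    exact hN.conj_mem _ (inv_mem hxN) _
  have hcP : ⁅x, y⁆ ∈ P := by
    rw [commutatorElement_def]
    exact mul_mem ((inferInstance : P.Normal).conj_mem y hy x) (inv_mem hy)
  obtain ⟨i, hi⟩ := hP.exists_orderOf_eq_pow ⟨_, hcP⟩
  rw [Subgroup.orderOf_mk] at hi
  have h1 : orderOf ⁅x, y⁆ ∣ Nat.card N := by
    have h2 := Subgroup.orderOf_dvd_natCard N hcN
    rw [← Subgroup.orderOf_coe] at h2
    exact h2
  have h3 : orderOf ⁅x, y⁆ = 1 :=
    Nat.eq_one_of_dvd_coprimes (hco.pow_right i) h1 (hi ▸ dvd_rfl)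
  exact commutatorElement_eq_one_iff_mul_comm.1 (orderOf_eq_one_iff.1 h3)

/-- The action of a group on the abelianisation of a normal subgroup. -/
noncomputable def actAb {X : Type*} [Group X] (P : Subgroup X) [P.Normal] : X →* MulAut (Abelianization P) where
  toFun g := (MulAut.conjNormal g : P ≃* P).abelianizationCongr
  map_one' := by
    refine MulEquiv.ext fun v => ?_
    obtain ⟨y, rfl⟩ := QuotientGroup.mk_surjective v
    show Abelianization.of ((MulAut.conjNormal (1 : X)) y) = _
    rw [map_one]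
    rfl
  map_mul' g h := by
    refine MulEquiv.ext fun v => ?_
    obtain ⟨y, rfl⟩ := QuotientGroup.mk_surjective v
    show Abelianization.of ((MulAut.conjNormal (g * h)) y) = _
    rw [map_mul]
    rfl

theorem actAb_of {X : Type*} [Group X] (P : Subgroup X) [P.Normal] (g : X) (y : P) :
    actAb P g (Abelianization.of y) = Abelianization.of (MulAut.conjNormal g y) := rfl

theorem exists_quot {K : Type u} [Field K] [Finite K] {p q a r : ℕ} [Fact p.Prime] [Fact q.Prime]
    (hK : Nat.card K = p ^ a) (ha : a = orderOf (p : ZMod q)) (hpq : p ≠ q) {ζ : Kˣ}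
    (hord : orderOf ζ = q) {n : ℕ} [NeZero n] (hn' : n = q ^ r) (hn : ζ ^ n = 1) {X : Type v} [Group X] [Finite X]
    (h1 : ¬ Cfsg.HasNormalPComplement p X) (h2 : ∀ H : Subgroup X, H ≠ ⊤ → Cfsg.HasNormalPComplement p H)
    {t : ℕ} (hcard : Nat.card X = p ^ t * q ^ r) :
    ∃ g : X →* Model ζ n hn, Function.Surjective g ∧ g.ker ≤ Subgroup.center X ∧ IsPGroup p g.ker ∧
      Nat.card X ≤ p ^ (if a % 2 = 1 then a else 3 * a / 2) * q ^ r := by
  classical
  have hp : p.Prime := Fact.out
  have hq : q.Prime := Fact.out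
  obtain ⟨P0⟩ := (inferInstance : Nonempty (Sylow p X))
  obtain ⟨S0⟩ := (inferInstance : Nonempty (Sylow q X))
  set P : Subgroup X := (P0 : Subgroup X) with hPdef
  set S : Subgroup X := (S0 : Subgroup X) with hSdef
  haveI hPn : P.Normal := (Cfsg.Agent.S0132.result h1 h2).2.2 P0
  have hPp : IsPGroup p P := P0.isPGroup'
  have hpq' : Nat.Coprime (p ^ t) (q ^ r) := ((Nat.coprime_primes hp hq).mpr hpq).pow _ _
  have hPcard : Nat.card P = p ^ t := by
    rw [hPdef, P0.card_eq_multiplicity, hcard, Nat.factorization_mul (Nat.pow_pos hp.pos).ne' (Nat.pow_pos hq.pos).ne',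
      Nat.factorization_pow, Nat.factorization_pow, hp.factorization, hq.factorization]
    simp [hpq, hpq.symm]
  have hScard : Nat.card S = q ^ r := by
    rw [hSdef, S0.card_eq_multiplicity, hcard, Nat.factorization_mul (Nat.pow_pos hp.pos).ne' (Nat.pow_pos hq.pos).ne',
      Nat.factorization_pow, Nat.factorization_pow, hp.factorization, hq.factorization]
    simp [hpq, hpq.symm]
  have hPidx : P.index = q ^ r := by
    have h := P.card_mul_index
    rw [hPcard, hcard] at h
    exact Nat.eq_of_mul_eq_mul_left (Nat.pow_pos hp.pos) h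
  have hPS : P ⊔ S = ⊤ := by
    refine Subgroup.eq_top_of_le_card _ (Nat.le_of_dvd Nat.card_pos ?_)
    rw [hcard]
    exact hpq'.mul_dvd_of_dvd_of_dvd (hPcard ▸ Subgroup.card_dvd_of_le le_sup_left)
      (hScard ▸ Subgroup.card_dvd_of_le le_sup_right)
  obtain ⟨x, hxS, hxC⟩ : ∃ x ∈ S, x ∉ Subgroup.centralizer (P : Set X) := by
    by_contra hcon
    push Not at hcon
    apply h1
    have hSn : S.Normal := by
      rw [← Subgroup.normalizer_eq_top_iff, eq_top_iff, ← hPS]
      refine sup_le (fun y hy => Subgroup.centralizer_le_normalizer _ ?_) Subgroup.le_normalizer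
      exact Subgroup.mem_centralizer_iff.mpr fun s hs => (Subgroup.mem_centralizer_iff.mp (hcon s hs) y hy).symm
    refine CfsgLib.NPC.hasNormalPComplement_iff.2 ⟨S, hSn, ?_, t, ?_⟩
    · rw [hScard]
      exact ((Nat.coprime_primes hq hp).mpr hpq.symm).pow_left r
    · have h := S.card_mul_index
      rw [hScard, hcard, mul_comm (p ^ t)] at h
      exact Nat.eq_of_mul_eq_mul_left (Nat.pow_pos hq.pos) h
  have hxord' : orderOf x ∣ q ^ r := hScard ▸ Subgroup.orderOf_dvd_natCard S hxS
  have hxco : (orderOf x).Coprime p :=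
    (((Nat.coprime_primes hq hp).mpr hpq.symm).pow_left r).coprime_dvd_left hxord'
  have hgen : P ⊔ Subgroup.zpowers x = ⊤ := by
    by_contra hne
    exact hxC (Subgroup.mem_centralizer_iff.mpr fun y hy => (commute_of_npc P hPp _ (h2 _ hne)
      (Subgroup.mem_sup_right (Subgroup.mem_zpowers x)) (Subgroup.mem_sup_left hy) hy hxco).symm)
  -- a normal subgroup with a cyclic supplement
  have hprod : ∀ U : Subgroup X, U.Normal → ∀ z : X, U ⊔ Subgroup.zpowers z = ⊤ →
      Nat.card X ≤ Nat.card U * orderOf z := by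
    intro U hU z hz
    haveI := hU
    rw [← U.card_mul_index]
    refine Nat.mul_le_mul_left _ ?_
    rw [← Subgroup.relIndex_top_right, ← hz, sup_comm, Subgroup.relIndex_sup_right, ← Nat.card_zpowers]
    exact Nat.le_of_dvd Nat.card_pos (Subgroup.relIndex_dvd_card _ _)
  have hxord : orderOf x = q ^ r := by
    refine Nat.dvd_antisymm hxord' (dvd_of_eq (le_antisymm ?_ (Nat.le_of_dvd (Nat.pow_pos hq.pos) hxord')))
    have h := hprod P hPn x hgen
    rw [hPcard, hcard] at h
    exact Nat.le_of_mul_le_mul_left h (Nat.pow_pos hp.pos)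
  set A := Subgroup.zpowers x with hA
  have hAcard : Nat.card A = q ^ r := by rw [hA, Nat.card_zpowers, hxord]
  have hAP : A ≤ Subgroup.normalizer (P : Set X) := by
    rw [Subgroup.normalizer_eq_top]
    exact le_top
  have hAp : (Nat.card A).Coprime p := by rw [hA, Nat.card_zpowers]; exact hxco
  have hnt : ⁅P, A⁆ ≠ ⊥ := fun h => hxC (Subgroup.mem_centralizer_iff.mpr fun y hy =>
    commutatorElement_eq_one_iff_mul_comm.1 (Subgroup.mem_bot.1
      (h ▸ Subgroup.commutator_mem_commutator hy (Subgroup.mem_zpowers x))))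
  have hmin : ∀ U : Subgroup X, U < P → A ≤ Subgroup.normalizer (U : Set X) → ⁅U, A⁆ = ⊥ := by
    intro U hU hAU
    rw [Subgroup.commutator_eq_bot_iff_le_centralizer]
    have hne : U ⊔ A ≠ ⊤ := by
      intro h
      have hUn : U.Normal := by
        rw [← Subgroup.normalizer_eq_top_iff, eq_top_iff, ← h]
        exact sup_le Subgroup.le_normalizer hAU
      have h3 := hprod U hUn x h
      rw [hxord, hcard, ← hPcard] at h3
      exact absurd (Subgroup.eq_of_le_of_card_ge hU.le (Nat.le_of_mul_le_mul_right h3 (Nat.pow_pos hq.pos))) hU.ne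
    intro y hy
    refine Subgroup.mem_centralizer_iff.mpr fun z hz => ?_
    exact commute_of_npc P hPp _ (h2 _ hne) (Subgroup.mem_sup_right hz) (Subgroup.mem_sup_left hy) (hU.le hy)
      (hAp.coprime_dvd_left (Subgroup.orderOf_dvd_natCard A hz))
  obtain ⟨hPA, hstr, -, -⟩ := Cfsg.Agent.S3736.result A A P hPp hAP le_rfl Subgroup.le_normalizer hAp hnt hmin
  haveI hPnt : Nontrivial P := by
    rw [Subgroup.nontrivial_iff_ne_bot]
    intro h
    exact hnt (by rw [h, Subgroup.commutator_bot_left])
  haveI : Group.IsNilpotent P := hPp.isNilpotent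
  have hDlt : commutator P < ⊤ := Group.IsSolvable.commutator_lt_top_of_nontrivial P
  set Dx : Subgroup X := (commutator P).map P.subtype with hDx
  haveI hDxn : Dx.Normal := inferInstance
  have hDxP : Dx < P := by
    refine lt_of_le_of_ne (Subgroup.map_subtype_le _) fun h => hDlt.ne ?_
    apply Subgroup.map_injective P.subtype_injective
    rw [← MonoidHom.range_eq_map, P.range_subtype, ← hDx, h]
  have hDxc : Dx ≤ Subgroup.center X := by
    rintro _ ⟨d, hd, rfl⟩
    have hAd := hmin Dx hDxP (by rw [Subgroup.normalizer_eq_top]; exact le_top)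
    rw [Subgroup.commutator_eq_bot_iff_le_centralizer] at hAd
    have hcomm : ∀ y ∈ P, y * (d : X) = (d : X) * y := by
      intro y hy
      rcases hstr with hel | ⟨-, -, hsp⟩
      · exact congrArg Subtype.val (hel.1.is_comm.comm ⟨y, hy⟩ d)
      · rw [hsp] at hd
        exact congrArg Subtype.val (Subgroup.mem_center_iff.mp hd ⟨y, hy⟩)
    have htop : (⊤ : Subgroup X) ≤ Subgroup.centralizer {(d : X)} := by
      rw [← hgen]
      refine sup_le (fun y hy => Subgroup.mem_centralizer_singleton_iff.mpr (hcomm y hy))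
        (Subgroup.zpowers_le.mpr (Subgroup.mem_centralizer_singleton_iff.mpr ?_))
      exact Subgroup.mem_centralizer_iff.mp (hAd ⟨d, hd, rfl⟩) x (Subgroup.mem_zpowers x)
    exact Subgroup.mem_center_iff.mpr fun y => Subgroup.mem_centralizer_singleton_iff.mp (htop (Subgroup.mem_top y))
  -- the module
  haveI : Finite (Abelianization P) := inferInstanceAs (Finite (↥P ⧸ commutator ↥P))
  have hsur : Function.Surjective (Abelianization.of : P →* Abelianization P) := QuotientGroup.mk_surjective
  have hexp : ∀ v : Abelianization P, v ^ p = 1 := by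
    intro v
    obtain ⟨y, rfl⟩ := hsur v
    rw [← map_pow]
    refine (QuotientGroup.eq_one_iff _).mpr ?_
    rcases hstr with hel | ⟨-, hfr, hsp⟩
    · rw [show y ^ p = 1 from Subtype.ext (hel.2 y y.2)]
      exact one_mem _
    · rw [hsp, ← hfr]
      exact CfsgLib.Transfer.pow_mem_frattini hPp y
  set σ := actAb P x with hσdef
  have hcharD : ∀ (g : X) (y : P), y ∈ commutator P → (MulAut.conjNormal g y : P) ∈ commutator P := by
    intro g y hy
    have h3 := (inferInstance : (commutator P).Characteristic).fixed (MulAut.conjNormal g : P ≃* P)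
    rw [← h3] at hy
    exact hy
  have hfixle : ∀ y : P, (y : X) ∈ Subgroup.centralizer (A : Set X) → y ∈ commutator P := fun y hy =>
    Cfsg.Agent.S3736.fixed_le hPp hAP hAp hPA (commutator P) le_rfl
      (fun g _ w hw h => hcharD g w hw) (Subgroup.mem_subgroupOf.mpr ⟨y.2, hy⟩)
  have hirr : ∀ B : Subgroup (Abelianization P), (∀ b ∈ B, σ b ∈ B) → B = ⊥ ∨ B = ⊤ := by
    intro B hB
    set U := (B.comap (Abelianization.of : P →* Abelianization P)).map P.subtype with hU
    have hxN : x ∈ Subgroup.normalizer (U : Set X) := by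
      rw [Subgroup.mem_normalizer_iff_conj_image_eq]
      refine Set.eq_of_subset_of_ncard_le ?_
        (le_of_eq (Set.ncard_image_of_injective _ (MulAut.conj x).injective).symm) (Set.toFinite _)
      rintro _ ⟨_, ⟨y, hy, rfl⟩, rfl⟩
      exact ⟨MulAut.conjNormal x y, hB _ hy, by simp [MulAut.conjNormal_apply]⟩
    rcases eq_or_ne B ⊤ with h | h
    · exact Or.inr h
    left
    have hUP : U < P := by
      refine lt_of_le_of_ne (Subgroup.map_subtype_le _) fun h' => h ?_
      rw [eq_top_iff]
      intro v _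
      obtain ⟨y, rfl⟩ := hsur v
      have h3 : (y : X) ∈ U := by rw [h']; exact y.2
      obtain ⟨y', hy', hyy⟩ := h3
      rwa [← Subtype.ext hyy]
    have hUA := hmin U hUP (Subgroup.zpowers_le.mpr hxN)
    rw [Subgroup.commutator_eq_bot_iff_le_centralizer] at hUA
    rw [eq_bot_iff]
    intro v hv
    obtain ⟨y, rfl⟩ := hsur v
    exact Subgroup.mem_bot.mpr ((QuotientGroup.eq_one_iff _).mpr (hfixle y (hUA ⟨y, hv, rfl⟩)))
  have hσ1 : σ ≠ 1 := by
    intro h
    haveI : Nontrivial (Abelianization P) := (QuotientGroup.nontrivial_iff).mpr hDlt.ne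
    obtain ⟨v, hv⟩ := exists_ne (1 : Abelianization P)
    have h3 : P ≤ Dx := by
      conv_lhs => rw [← hPA]
      rw [Subgroup.commutator_le]
      intro y hy g hg
      have hg1 : actAb P g = 1 := by
        obtain ⟨i, rfl⟩ := hg
        show actAb P (x ^ i) = 1
        rw [map_zpow, ← hσdef, h, one_zpow]
      have h4 := congrArg (fun f : MulAut (Abelianization P) => f (Abelianization.of (⟨y, hy⟩⁻¹ : P))) hg1
      simp only [actAb_of, MulAut.one_apply] at h4
      have h5 : (⟨y, hy⟩ : P) * MulAut.conjNormal g (⟨y, hy⟩⁻¹ : P) ∈ commutator P := by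
        refine (QuotientGroup.eq_one_iff _).mp ?_
        show Abelianization.of _ = 1
        rw [map_mul, h4, ← map_mul, mul_inv_cancel, map_one]
      exact ⟨_, h5, by simp [commutatorElement_def, mul_assoc]⟩
    exact hDxP.ne (le_antisymm hDxP.le h3)
  have hσq : σ ^ q = 1 := by
    rw [hσdef, ← map_pow]
    have hlt : P ⊔ Subgroup.zpowers (x ^ q) ≠ ⊤ := by
      intro h
      have h3 := hprod P hPn _ h
      rw [hPcard, hcard] at h3
      have h4 := Nat.le_of_mul_le_mul_left h3 (Nat.pow_pos hp.pos)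
      have hr0 : r ≠ 0 := fun h0 => by
        rw [h0, pow_zero, orderOf_eq_one_iff] at hxord
        exact hxC (hxord ▸ one_mem _)
      rw [orderOf_pow_of_dvd hq.ne_zero (hxord ▸ dvd_pow_self q hr0), hxord] at h4
      exact absurd h4 (not_le.mpr (Nat.div_lt_self (Nat.pow_pos hq.pos) hq.one_lt))
    refine MulEquiv.ext fun v => ?_
    obtain ⟨y, rfl⟩ := hsur v
    rw [actAb_of, MulAut.one_apply]
    congr 1
    refine Subtype.ext ?_
    rw [MulAut.conjNormal_apply, mul_inv_eq_iff_eq_mul]
    exact commute_of_npc P hPp _ (h2 _ hlt) (Subgroup.mem_sup_right (Subgroup.mem_zpowers _))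
      (Subgroup.mem_sup_left y.2) y.2 (hxco.coprime_dvd_left (orderOf_pow_dvd q))
  obtain ⟨j, hj, ψ, hψ⟩ := exists_coord hK ha hpq hord hexp σ hσq hσ1 hirr
  set y₀ := x ^ j with hy₀
  have hy₀ord : y₀ ^ n = 1 := by rw [hy₀, ← pow_mul, hn', mul_comm, pow_mul, ← hxord, pow_orderOf_eq_one, one_pow]
  have hzp : x ∈ Subgroup.zpowers y₀ := by
    have hco : Nat.Coprime j (orderOf x) := by rw [hxord]; exact hj.pow_right r
    obtain ⟨m, hm⟩ := exists_pow_eq_self_of_coprime hco
    exact ⟨(m : ℤ), by rw [hy₀]; simpa using hm⟩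
  have hψ' : ∀ w, ψ (scal ζ w) = actAb P y₀ (ψ w) := fun w => by rw [hψ, hy₀, map_pow]
  -- the bound
  let π : P →* Multiplicative K := ψ.symm.toMonoidHom.comp Abelianization.of
  have hbound := card_le_of_coord hK ha hpq hord π (ψ.symm.surjective.comp hsur)
    (by
      rw [← MonoidHom.comap_ker, (MonoidHom.ker_eq_bot_iff _).mpr ψ.symm.injective, MonoidHom.comap_bot]
      exact QuotientGroup.ker_mk' _)
    (fun d hd => Subgroup.mem_center_iff.mpr fun y => Subtype.ext
      (Subgroup.mem_center_iff.mp (hDxc ⟨d, hd, rfl⟩) (y : X)))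
    (MulAut.conjNormal y₀ : P ≃* P)
    (fun y => ψ.injective (by
      rw [hψ']
      simp only [π, MonoidHom.comp_apply, MulEquiv.coe_toMonoidHom, MulEquiv.apply_symm_apply]
      exact (actAb_of P y₀ y).symm))
    (fun d hd => Subtype.ext (by
      rw [MulAut.conjNormal_apply, show y₀ * (d : X) = (d : X) * y₀ from
        Subgroup.mem_center_iff.mp (hDxc ⟨d, hd, rfl⟩) y₀, mul_inv_cancel_right]))
  -- the model maps onto the quotient by the commutator subgroup
  let b : Abelianization P →* X ⧸ Dx := QuotientGroup.lift (commutator P) ((QuotientGroup.mk' Dx).comp P.subtype)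
    (fun d hd => by
      rw [MonoidHom.mem_ker, MonoidHom.comp_apply, QuotientGroup.mk'_apply, QuotientGroup.eq_one_iff]
      exact ⟨d, hd, rfl⟩)
  have hb : ∀ y : P, b (Abelianization.of y) = QuotientGroup.mk' Dx (y : X) := fun y => rfl
  let fn : Multiplicative K →* X ⧸ Dx := b.comp ψ.toMonoidHom
  have hstep : ∀ w, fn (scal ζ w) = QuotientGroup.mk' Dx y₀ * fn w * (QuotientGroup.mk' Dx y₀)⁻¹ := by
    intro w
    show b (ψ (scal ζ w)) = _ * b (ψ w) * _
    obtain ⟨y, hy⟩ := hsur (ψ w)
    rw [hψ', ← hy, actAb_of, hb, hb, MulAut.conjNormal_apply, map_mul, map_mul, map_inv]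
  have hstepk : ∀ (k : ℕ) w, fn (scal (ζ ^ k) w) =
      QuotientGroup.mk' Dx y₀ ^ k * fn w * (QuotientGroup.mk' Dx y₀ ^ k)⁻¹ := by
    intro k
    induction k with
    | zero => intro w; simp
    | succ k ih =>
      intro w
      rw [pow_succ', map_mul, MulAut.mul_apply, hstep, ih, pow_succ']
      group
  let Φ : Model ζ n hn →* X ⧸ Dx := SemidirectProduct.lift fn
    (cyc n (QuotientGroup.mk' Dx y₀) (by rw [← map_pow, hy₀ord, map_one]))
    (fun c => by
      refine MonoidHom.ext fun w => ?_
      simp only [MonoidHom.comp_apply, MulEquiv.coe_toMonoidHom, MulAut.conj_apply]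
      rw [← gen_pow_val c, act_gen_pow, cyc_gen_pow, hstepk])
  have hΦsurj : Function.Surjective Φ := by
    rw [← MonoidHom.range_eq_top]
    have h3 : (⊤ : Subgroup X) ≤ Φ.range.comap (QuotientGroup.mk' Dx) := by
      rw [← hgen]
      refine sup_le (fun y hy => ⟨SemidirectProduct.inl (ψ.symm (Abelianization.of ⟨y, hy⟩)), ?_⟩)
        (Subgroup.zpowers_le.mpr ?_)
      · rw [SemidirectProduct.lift_inl]
        show b (ψ (ψ.symm _)) = _
        rw [MulEquiv.apply_symm_apply, hb]
      · obtain ⟨m, hm⟩ := hzp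
        rw [← hm]
        refine zpow_mem ?_ m
        exact ⟨SemidirectProduct.inr (gen n), by rw [SemidirectProduct.lift_inr, cyc_gen]⟩
    rw [eq_top_iff]
    intro w _
    obtain ⟨y, rfl⟩ := QuotientGroup.mk'_surjective Dx w
    exact h3 (Subgroup.mem_top y)
  have hΦcard : Nat.card (Model ζ n hn) = Nat.card (X ⧸ Dx) := by
    have hA' : (commutator P).index = p ^ a := by
      rw [Subgroup.index, ← hK, ← Nat.card_congr (Multiplicative.toAdd (α := K))]
      exact (Nat.card_congr ψ.toEquiv).symm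
    rw [card_model, hK, ← Subgroup.index_eq_card, hDx, Subgroup.index_map_subtype, hA', hPidx, hn']
  have hΦbij : Function.Bijective Φ := (Nat.bijective_iff_surjective_and_card _).mpr ⟨hΦsurj, hΦcard⟩
  let e := MulEquiv.ofBijective Φ hΦbij
  refine ⟨e.symm.toMonoidHom.comp (QuotientGroup.mk' Dx), e.symm.surjective.comp (QuotientGroup.mk'_surjective Dx),
    ?_, ?_, ?_⟩
  · rw [← MonoidHom.comap_ker, (MonoidHom.ker_eq_bot_iff _).mpr e.symm.injective, MonoidHom.comap_bot,
      QuotientGroup.ker_mk']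
    exact hDxc
  · rw [← MonoidHom.comap_ker, (MonoidHom.ker_eq_bot_iff _).mpr e.symm.injective, MonoidHom.comap_bot,
      QuotientGroup.ker_mk']
    exact hPp.to_le hDxP.le
  · rw [← P.card_mul_index, hPidx]
    exact Nat.mul_le_mul_right _ hbound

end CfsgLib.SchmidtCover
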